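import Mathlib
import Groth.Agent.Hensel.PairNbhd
import Groth.Agent.Hensel.PairEnvelope
import Groth.Agent.Hensel.PairHenselization
import Groth.Agent.Hensel.Ops

/-!
An algebra whose homomorphisms commute with filtered colimits of henselian pairs is henselian finitely presented.
-/

set_option autoImplicit false
set_option linter.style.haveILetI false
set_option backward.isDefEq.respectTransparency false

universe u

open Groth.Agent.Hensel

namespace Groth.Agent.HfpConv

variable {A : Type u} [CommRing A] (I : Ideal A) {B : Type u} [CommRing B] [Algebra A B]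

/-- Every `A`-algebra map into a directed limit of henselian pairs factors through a stage. -/
def Factors (I : Ideal A) (B : Type u) [CommRing B] [Algebra A B] : Prop :=
  ∀ (κ : Type u) [Preorder κ] [IsDirectedOrder κ] [Nonempty κ]
    (Ra : κ → Type u) [∀ a, CommRing (Ra a)] [∀ a, Algebra A (Ra a)]
    [∀ a, HenselianRing (Ra a) (I.map (algebraMap A (Ra a)))]
    (t : ∀ a b : κ, a ≤ b → (Ra a →+* Ra b)) [DirectedSystem Ra (fun a b hab => t a b hab)],
    (∀ (a b : κ) (hab : a ≤ b), (t a b hab).comp (algebraMap A (Ra a)) = algebraMap A (Ra b)) →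
    ∀ [Algebra A (DirectLimit Ra t)],
    (∀ (a : κ) (x : A), algebraMap A (DirectLimit Ra t) x =
      DirectLimit.Ring.of Ra t a (algebraMap A (Ra a) x)) →
    ∀ χ : B →ₐ[A] DirectLimit Ra t, ∃ (a : κ) (φ : B →ₐ[A] Ra a),
      ∀ x : B, DirectLimit.Ring.of Ra t a (φ x) = χ x

/-- If `B` is the limit of a directed system of henselian pairs, the identity of `B` factors through a stage. -/
theorem exists_section (hF : Factors I B) {κ : Type u} [Preorder κ] [IsDirectedOrder κ] [Nonempty κ]
    (Ra : κ → Type u) [∀ a, CommRing (Ra a)] [∀ a, Algebra A (Ra a)]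
    [∀ a, HenselianRing (Ra a) (I.map (algebraMap A (Ra a)))]
    (t : ∀ a b : κ, a ≤ b → (Ra a →+* Ra b)) [DirectedSystem Ra (fun a b hab => t a b hab)]
    (g : ∀ a, Ra a →+* B) (hgA : ∀ a r, g a (algebraMap A (Ra a) r) = algebraMap A B r)
    (htA : ∀ a b hab r, t a b hab (algebraMap A (Ra a) r) = algebraMap A (Ra b) r)
    (hg : ∀ a b hab x, g b (t a b hab x) = g a x) (hsurj : ∀ y, ∃ a x, g a x = y)
    (hinj : ∀ a x, g a x = 0 → ∃ b, ∃ hab : a ≤ b, t a b hab x = 0) :
    ∃ (a : κ) (φ : B →ₐ[A] Ra a), ∀ y, g a (φ y) = y := by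
  let L := DirectLimit Ra t
  letI : Algebra A L :=
    ((DirectLimit.Ring.of Ra t (Classical.arbitrary κ)).comp (algebraMap A (Ra (Classical.arbitrary κ)))).toAlgebra
  have halg : ∀ (a : κ) (r : A), algebraMap A L r = DirectLimit.Ring.of Ra t a (algebraMap A (Ra a) r) := by
    intro a r
    obtain ⟨c, hac, h0c⟩ := exists_ge_ge a (Classical.arbitrary κ)
    show DirectLimit.Ring.of Ra t (Classical.arbitrary κ) (algebraMap A _ r) = _
    rw [← DirectLimit.Ring.of_f (G := Ra) (f := t) h0c, ← DirectLimit.Ring.of_f (G := Ra) (f := t) hac, htA, htA]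
  let lf : L →+* B := DirectLimit.Ring.lift Ra t B g hg
  have hlf : ∀ a x, lf (DirectLimit.Ring.of Ra t a x) = g a x := fun a x => rfl
  have hbij : Function.Bijective lf := by
    refine ⟨(injective_iff_map_eq_zero lf).2 fun z hz => ?_, fun y => ?_⟩
    · obtain ⟨a, x, rfl⟩ := DirectLimit.exists_eq_mk _ z
      obtain ⟨b, hab, hb⟩ := hinj a x ((hlf a x).symm.trans hz)
      show DirectLimit.Ring.of Ra t a x = 0
      rw [← DirectLimit.Ring.of_f (G := Ra) (f := t) hab, hb, map_zero]
    · obtain ⟨a, x, rfl⟩ := hsurj y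
      exact ⟨_, hlf a x⟩
  let lA : L →ₐ[A] B :=
    { lf with
      commutes' := fun r => by
        change lf (algebraMap A L r) = _
        rw [halg (Classical.arbitrary κ), hlf, hgA] }
  let e : L ≃ₐ[A] B := AlgEquiv.ofBijective lA hbij
  obtain ⟨a, φ, hφ⟩ := hF κ Ra t (fun a b hab => RingHom.ext (htA a b hab)) halg e.symm.toAlgHom
  refine ⟨a, φ, fun y => ?_⟩
  have h1 := congrArg lf (hφ y)
  rw [hlf] at h1
  exact h1.trans (e.apply_symm_apply y)

/-- The henselization of a polynomial algebra maps to `B`. -/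
theorem exists_extend {P : Type u} [CommRing P] [Algebra A P] (π : P →ₐ[A] B)
    [HenselianRing B (I.map (algebraMap A B))] :
    ∃! g : PairEnv P (I.map (algebraMap A P)) →+* B,
      g.comp (algebraMap P (PairEnv P (I.map (algebraMap A P)))) = π.toRingHom :=
  (isPairHenselization_pairEnv P (I.map (algebraMap A P))).2 B (I.map (algebraMap A B)) π.toRingHom inferInstance (le_of_eq (by
    rw [Ideal.map_map]; exact congrArg (Ideal.map · I) (RingHom.ext π.commutes)))

/-- A quotient of a henselian pair is henselian. -/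
theorem henselian_of_surjective {E R : Type u} [CommRing E] [CommRing R] [Algebra A R] (J : Ideal E)
    [HenselianRing E J] (q : E →+* R) (hq : Function.Surjective q)
    (hJ : J.map q = I.map (algebraMap A R)) : HenselianRing R (I.map (algebraMap A R)) := by
  letI := q.toAlgebra
  haveI : Algebra.IsIntegral E R := Algebra.isIntegral_of_surjective hq
  have h := henselianRing_integral E J R
  rwa [RingHom.algebraMap_toAlgebra, hJ] at h

variable [HenselianRing B (I.map (algebraMap A B))]

/-- Compatibility of the extensions. -/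
theorem image_le {P Q E E' : Type u} [CommRing P] [Algebra A P] [CommRing Q] [Algebra A Q] [CommRing E]
    [Algebra P E] [CommRing E'] [Algebra Q E'] (hE : Hens2.IsPairHenselization P (I.map (algebraMap A P)) E)
    (hE' : Hens2.IsPairHenselization Q (I.map (algebraMap A Q)) E') (π : P →ₐ[A] B)
    (π' : Q →ₐ[A] B) (i : P →ₐ[A] Q) (hi : π'.comp i = π)
    (g : E →+* B) (g' : E' →+* B)
    (hg : g.comp (algebraMap P E) = π.toRingHom) (hg' : g'.comp (algebraMap Q E') = π'.toRingHom)
    (z : E) : ∃ w, g' w = g z := by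
  have hiA : i.toRingHom.comp (algebraMap A P) = algebraMap A Q := RingHom.ext i.commutes
  have hπA : π.toRingHom.comp (algebraMap A P) = algebraMap A B := RingHom.ext π.commutes
  obtain ⟨k, hk, -⟩ := hE.2 E' ((I.map (algebraMap A Q)).map (algebraMap Q E'))
    ((algebraMap Q E').comp i.toRingHom) hE'.1
    (le_of_eq (by rw [← Ideal.map_map, Ideal.map_map (algebraMap A P), hiA]))
  refine ⟨k z, RingHom.congr_fun ((hE.2 B (I.map (algebraMap A B)) π.toRingHom inferInstance
    (le_of_eq (by rw [Ideal.map_map, hπA]))).unique (y₁ := g'.comp k) (y₂ := g) ?_ hg) z⟩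
  rw [RingHom.comp_assoc, hk, ← RingHom.comp_assoc, hg']
  exact congrArg AlgHom.toRingHom hi

/-- `B` is a quotient of the henselization of a polynomial algebra in finitely many variables. -/
theorem exists_surjective (hF : Factors I B) :
    ∃ (s : Finset B) (g : PairEnv (MvPolynomial s A) (I.map (algebraMap A (MvPolynomial s A))) →+* B),
      g.comp (algebraMap (MvPolynomial s A) _) = (MvPolynomial.aeval (R := A) ((↑) : s → B)).toRingHom ∧ Function.Surjective g := by
  classical
  let P : Finset B → Type u := fun s => MvPolynomial s A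
  let π : ∀ s, P s →ₐ[A] B := fun s => MvPolynomial.aeval ((↑) : s → B)
  have hg := fun s => (exists_extend I (π s)).exists
  choose g hg using hg
  have hgA : ∀ s r, g s (algebraMap (P s) _ (algebraMap A (P s) r)) = algebraMap A B r := fun s r =>
    (RingHom.congr_fun (hg s) _).trans ((π s).commutes r)
  let R : Finset B → Subalgebra A B := fun s =>
    { (g s).range.toSubsemiring with
      algebraMap_mem' := fun r => ⟨_, hgA s r⟩ }
  have hmem : ∀ s x, x ∈ R s ↔ ∃ z, g s z = x := fun s x => Iff.rfl
  have hmono : ∀ s t, s ≤ t → R s ≤ R t := by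
    intro s t hst x hx
    obtain ⟨z, rfl⟩ := (hmem s x).1 hx
    refine (hmem t _).2 (image_le I (isPairHenselization_pairEnv _ _) (isPairHenselization_pairEnv _ _) (π s) (π t) (MvPolynomial.rename fun v => ⟨v.1, hst v.2⟩)
      (MvPolynomial.algHom_ext fun v => ?_) (g s) (g t) (hg s) (hg t) z)
    show MvPolynomial.aeval _ (MvPolynomial.rename _ (MvPolynomial.X v)) = MvPolynomial.aeval _ (MvPolynomial.X v)
    rw [MvPolynomial.rename_X, MvPolynomial.aeval_X, MvPolynomial.aeval_X]
  haveI : ∀ s, HenselianRing (R s) (I.map (algebraMap A (R s))) := fun s => by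
    let J := I.map (algebraMap A (P s))
    haveI := henselianRing_pairEnv (P s) J
    let q : PairEnv (P s) J →+* R s := (g s).codRestrict (R s) fun z => (hmem s _).2 ⟨z, rfl⟩
    have hq : Function.Surjective q := fun x => by
      obtain ⟨z, hz⟩ := (hmem s _).1 x.2
      exact ⟨z, Subtype.ext hz⟩
    refine henselian_of_surjective I (J.map (algebraMap _ _)) q hq ?_
    rw [Ideal.map_map, Ideal.map_map]
    exact congrArg (Ideal.map · I) (RingHom.ext fun r => Subtype.ext (hgA s r))
  let t : ∀ s u, s ≤ u → (R s →+* R u) := fun s u hsu => (Subalgebra.inclusion (hmono s u hsu)).toRingHom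
  haveI : DirectedSystem (fun s => (R s : Type u)) (fun a b hab => t a b hab) :=
    ⟨fun _ _ => rfl, fun _ _ _ _ _ _ => rfl⟩
  obtain ⟨s, φ, hφ⟩ := exists_section I hF (fun s => (R s : Type u)) t (fun s => (R s).val.toRingHom)
    (fun _ _ => rfl) (fun _ _ _ _ => rfl) (fun _ _ _ _ => rfl)
    (fun y => ⟨{y}, ⟨y, (hmem _ _).2 ⟨algebraMap _ _ (MvPolynomial.X ⟨y, Finset.mem_singleton_self y⟩),
      (RingHom.congr_fun (hg {y}) _).trans (MvPolynomial.aeval_X _ _)⟩⟩, rfl⟩)
    (fun a x hx => ⟨a, le_rfl, Subtype.ext hx⟩)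
  refine ⟨s, g s, hg s, fun y => ?_⟩
  obtain ⟨z, hz⟩ := (hmem s _).1 (φ y).2
  exact ⟨z, hz.trans (hφ y)⟩

omit [HenselianRing B (I.map (algebraMap A B))] in
/-- The kernel of such a quotient map is finitely generated. -/
theorem exists_finite_kernel (hF : Factors I B) {n : Type u} [Finite n]
    (π : MvPolynomial n A →ₐ[A] B)
    (g : PairEnv (MvPolynomial n A) (I.map (algebraMap A (MvPolynomial n A))) →+* B)
    (hg : g.comp (algebraMap _ _) = π.toRingHom) (hsurj : Function.Surjective g) :
    ∃ b : Finset (PairEnv (MvPolynomial n A) (I.map (algebraMap A (MvPolynomial n A)))),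
      Ideal.span (b : Set _) = RingHom.ker g := by
  classical
  cases nonempty_fintype n
  let P := MvPolynomial n A
  let J := I.map (algebraMap A P)
  let E := PairEnv P J
  haveI := henselianRing_pairEnv P J
  letI : Algebra A E := ((algebraMap P E).comp (algebraMap A P)).toAlgebra
  haveI : IsScalarTower A P E := IsScalarTower.of_algebraMap_eq fun _ => rfl
  let κ := Finset (RingHom.ker g)
  let sp : κ → Ideal E := fun a => Ideal.span (Subtype.val '' (a : Set (RingHom.ker g)))
  have hle : ∀ a, sp a ≤ RingHom.ker g := fun a => Ideal.span_le.2 (by rintro _ ⟨x, -, rfl⟩; exact x.2)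
  have hmono : ∀ a b, a ≤ b → sp a ≤ sp b := fun a b hab =>
    Ideal.span_mono (Set.image_mono (Finset.coe_subset.2 hab))
  haveI hH : ∀ a, HenselianRing (E ⧸ sp a) (I.map (algebraMap A (E ⧸ sp a))) := fun a => by
    refine henselian_of_surjective I (J.map (algebraMap P E)) (Ideal.Quotient.mk (sp a))
      Ideal.Quotient.mk_surjective ?_
    rw [Ideal.map_map, Ideal.map_map]
    rfl
  let t : ∀ a b, a ≤ b → (E ⧸ sp a →+* E ⧸ sp b) := fun a b hab => Ideal.Quotient.factor (hmono a b hab)
  haveI : DirectedSystem (fun a => E ⧸ sp a) (fun a b hab => t a b hab) :=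
    ⟨fun a x => by obtain ⟨x, rfl⟩ := Ideal.Quotient.mk_surjective x; rfl,
     fun c b a h h' x => by obtain ⟨x, rfl⟩ := Ideal.Quotient.mk_surjective x; rfl⟩
  obtain ⟨a, φ, hφ⟩ := exists_section I hF (fun a => E ⧸ sp a) t
    (fun a => Ideal.Quotient.lift (sp a) g fun x hx => hle a hx)
    (fun a r => (RingHom.congr_fun hg (algebraMap A P r)).trans (π.commutes r))
    (fun a b hab r => rfl)
    (fun a b hab x => by obtain ⟨x, rfl⟩ := Ideal.Quotient.mk_surjective x; rfl)
    (fun y => by obtain ⟨z, rfl⟩ := hsurj y; exact ⟨∅, Ideal.Quotient.mk _ z, rfl⟩)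
    (fun a x hx => by
      obtain ⟨x, rfl⟩ := Ideal.Quotient.mk_surjective x
      refine ⟨insert ⟨x, hx⟩ a, Finset.subset_insert _ _, ?_⟩
      exact Ideal.Quotient.eq_zero_iff_mem.2 (Ideal.subset_span ⟨⟨x, hx⟩, Finset.mem_insert_self _ _, rfl⟩))
  choose e he using fun i : n => Ideal.Quotient.mk_surjective (φ (g (algebraMap P E (MvPolynomial.X i))))
  have hd : ∀ i, e i - algebraMap P E (MvPolynomial.X i) ∈ RingHom.ker g := fun i => by
    rw [RingHom.mem_ker, map_sub, sub_eq_zero]
    have h1 := hφ (g (algebraMap P E (MvPolynomial.X i)))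
    rw [← he i] at h1
    exact h1
  let b : Finset (RingHom.ker g) := (show Finset (RingHom.ker g) from a) ∪ Finset.univ.image fun i => (⟨_, hd i⟩ : RingHom.ker g)
  have hab : a ≤ b := Finset.subset_union_left
  let g1 : E →+* E ⧸ sp b := (t a b hab).comp (φ.toRingHom.comp g)
  have hcA : (Ideal.Quotient.mk (sp b)).comp (algebraMap P E) = g1.comp (algebraMap P E) :=
    MvPolynomial.ringHom_ext (fun r => by
      show Ideal.Quotient.mk (sp b) (algebraMap P E (MvPolynomial.C r)) =
        t a b hab (φ (g (algebraMap P E (MvPolynomial.C r))))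
      rw [show g (algebraMap P E (MvPolynomial.C r)) = algebraMap A B r from
        (RingHom.congr_fun hg _).trans (π.commutes r), φ.commutes]
      rfl) fun i => by
      show Ideal.Quotient.mk (sp b) (algebraMap P E (MvPolynomial.X i)) =
        t a b hab (φ (g (algebraMap P E (MvPolynomial.X i))))
      rw [← he i]
      show _ = Ideal.Quotient.mk (sp b) (e i)
      have hmem : e i - algebraMap P E (MvPolynomial.X i) ∈ sp b := Ideal.subset_span
        ⟨(⟨_, hd i⟩ : RingHom.ker g), Finset.mem_coe.2
          (Finset.mem_union_right _ (Finset.mem_image_of_mem _ (Finset.mem_univ i))), rfl⟩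
      exact (Ideal.Quotient.eq.2 hmem).symm
  obtain ⟨k, -, hk⟩ := (isPairHenselization_pairEnv P J).2 (E ⧸ sp b) (I.map (algebraMap A _))
    ((Ideal.Quotient.mk (sp b)).comp (algebraMap P E)) (hH b) (le_of_eq (by rw [Ideal.map_map]; rfl))
  have h12 : Ideal.Quotient.mk (sp b) = g1 := (hk _ rfl).trans (hk g1 hcA.symm).symm
  refine ⟨b.map ⟨Subtype.val, Subtype.val_injective⟩, le_antisymm ?_ fun x hx => ?_⟩
  · rw [Finset.coe_map]; exact hle b
  · rw [Finset.coe_map]
    show x ∈ sp b
    rw [← Ideal.Quotient.eq_zero_iff_mem, h12]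
    show t a b hab (φ (g x)) = 0
    rw [RingHom.mem_ker.1 hx, map_zero, map_zero]

/-- The main theorem. -/
theorem hfp_of_factors (hF : Factors I B) :
    ∃ (R : Type u) (_ : CommRing R) (_ : Algebra A R) (_ : Algebra R B) (_ : IsScalarTower A R B),
      Algebra.FinitePresentation A R ∧ Hens2.IsPairHenselization R (I.map (algebraMap A R)) B := by
  classical
  obtain ⟨n, g, hg, hsurj⟩ := exists_surjective I hF
  let π := MvPolynomial.aeval (R := A) ((↑) : n → B)
  obtain ⟨b, hb⟩ := exists_finite_kernel I hF π g hg hsurj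
  let P := MvPolynomial n A
  let J := I.map (algebraMap A P)
  let E := PairEnv P J
  obtain ⟨S, _, _, _, hS, f, hf⟩ := exists_nhd_finite (A := P) (I := J) (B := E) (isPairHenselization_pairEnv P J) b
  letI : Algebra S E := f.toRingHom.toAlgebra
  haveI : IsScalarTower P S E := IsScalarTower.of_algebraMap_eq fun x => (f.commutes x).symm
  letI : Algebra A S := ((algebraMap P S).comp (algebraMap A P)).toAlgebra
  haveI : IsScalarTower A P S := IsScalarTower.of_algebraMap_eq fun _ => rfl
  have hES := isPairHenselization_of_nhd (isPairHenselization_pairEnv P J) S hS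
  choose c hc using fun x : (b : Set E) => hf x.2
  let K : Ideal S := Ideal.span (Set.range c)
  have hK : K.map (algebraMap S E) = RingHom.ker g := by
    rw [Ideal.map_span, ← hb]
    congr 1
    ext x
    exact ⟨by rintro ⟨_, ⟨y, rfl⟩, rfl⟩; exact (hc y).symm ▸ y.2,
      fun hx => ⟨c ⟨x, hx⟩, ⟨⟨x, hx⟩, rfl⟩, hc ⟨x, hx⟩⟩⟩
  have hq := isPairHenselization_quotient hES K
  let gS : S ⧸ K →+* B := Ideal.Quotient.lift K (g.comp (algebraMap S E)) fun x hx =>
    RingHom.mem_ker.1 (hK.le (Ideal.mem_map_of_mem _ hx))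
  letI : Algebra (S ⧸ K) B := gS.toAlgebra
  haveI : Algebra.FinitePresentation A S := Algebra.FinitePresentation.trans A P S
  haveI : IsScalarTower A (S ⧸ K) B := IsScalarTower.of_algebraMap_eq fun r => by
    show algebraMap A B r = g (f (algebraMap P S (algebraMap A P r)))
    rw [f.commutes]
    exact ((RingHom.congr_fun hg _).trans (π.commutes r)).symm
  refine ⟨S ⧸ K, inferInstance, inferInstance, inferInstance, inferInstance,
    Algebra.FinitePresentation.quotient ⟨(Set.finite_range c).toFinset, by rw [Set.Finite.coe_toFinset]⟩, ?_⟩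
  have hI : (J.map (algebraMap P S)).map (Ideal.Quotient.mk K) = I.map (algebraMap A (S ⧸ K)) := by
    rw [Ideal.map_map, Ideal.map_map]; rfl
  rw [hI] at hq
  let e : (E ⧸ K.map (algebraMap S E)) ≃ₐ[S ⧸ K] B := AlgEquiv.ofRingEquiv
    (f := (Ideal.quotEquivOfEq hK).trans (RingHom.quotientKerEquivOfSurjective hsurj))
    fun x => by obtain ⟨x, rfl⟩ := Ideal.Quotient.mk_surjective x; rfl
  refine isPairHenselization_of_equiv e hq ?_
  rw [Ideal.map_map, ← IsScalarTower.algebraMap_eq]
  infer_instance

end Groth.Agent.HfpConv
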